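import Groth.Agent.DvrDom.Composite
import Groth.Agent.FpqcDescent.Immersion

/-!
# Composite valuation rings: gluing morphisms and descending to residue fields
-/

universe u

open CategoryTheory AlgebraicGeometry IsLocalRing

set_option backward.isDefEq.respectTransparency false

namespace Groth.Agent.ValComp

open Groth.Agent.DvrDom

/-- The inclusion of a composite valuation ring. -/
def incl {K : Type u} [Field K] (V : ValuationSubring K) (V' : ValuationSubring (ResidueField V)) :
    composite V V' →+* V :=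
  (composite V V').subtype.codRestrict V.toSubring fun x => x.2.1

theorem map_closedPoint {A B : Type u} [CommRing A] [IsLocalRing A] [CommRing B] [IsLocalRing B]
    (f : A →+* B) [IsLocalHom f] :
    Spec.map (CommRingCat.ofHom f) (closedPoint B) = closedPoint A :=
  comap_closedPoint f

/-- Morphisms on a valuation ring and on a valuation ring of its residue field glue on the composite. -/
theorem exists_glue {T : Scheme.{u}} {K : Type u} [Field K] (V : ValuationSubring K)
    (V' : ValuationSubring (ResidueField V)) (g : Spec (CommRingCat.of V) ⟶ T)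
    (ht : Spec (CommRingCat.of V') ⟶ T)
    (w : Spec.map (CommRingCat.ofHom V'.subtype) ≫ ht =
      Spec.map (CommRingCat.ofHom (residue V)) ≫ g) :
    ∃ h : Spec (CommRingCat.of (composite V V')) ⟶ T,
      Spec.map (CommRingCat.ofHom (incl V V')) ≫ h = g ∧
        Spec.map (CommRingCat.ofHom (compositeRes V V')) ≫ h = ht := by
  set y₁ := ht (closedPoint V')
  set p := g (closedPoint V)
  have hp : p ⤳ y₁ := by
    let pt : Spec (CommRingCat.of (ResidueField V)) := closedPoint (ResidueField V)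
    have h1 := congr($(w) pt)
    rw [Scheme.Hom.comp_apply, Scheme.Hom.comp_apply, map_closedPoint (residue V)] at h1
    have h2 : p = ht (Spec.map (CommRingCat.ofHom V'.subtype) pt) := h1.symm
    rw [h2]
    exact (specializes_closedPoint _).map ht.continuous
  let τ : T.presheaf.stalk p ⟶ CommRingCat.of V := Scheme.stalkClosedPointTo g
  have hτ : Spec.map τ ≫ T.fromSpecStalk p = g := Scheme.Spec_stalkClosedPointTo_fromSpecStalk g
  let σ : T.presheaf.stalk y₁ ⟶ CommRingCat.of V' := Scheme.stalkClosedPointTo ht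
  have hσ : Spec.map σ ≫ T.fromSpecStalk y₁ = ht := Scheme.Spec_stalkClosedPointTo_fromSpecStalk ht
  let τ' : T.presheaf.stalk y₁ ⟶ CommRingCat.of V := T.presheaf.stalkSpecializes hp ≫ τ
  have hτ' : Spec.map τ' ≫ T.fromSpecStalk y₁ = g := by
    rw [Spec.map_comp, Category.assoc, Scheme.SpecMap_stalkSpecializes_fromSpecStalk, hτ]
  have key : σ ≫ CommRingCat.ofHom V'.subtype = τ' ≫ CommRingCat.ofHom (residue V) := by
    apply Spec.map_injective
    rw [← cancel_mono (T.fromSpecStalk y₁), Spec.map_comp, Category.assoc, hσ, Spec.map_comp,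
      Category.assoc, hτ', w]
  have key' : ∀ a, residue V (τ'.hom a) = (σ.hom a : ResidueField V) := fun a =>
    (congr($(key).hom a)).symm
  let ψ : T.presheaf.stalk y₁ →+* composite V V' :=
    (V.subtype.comp τ'.hom).codRestrict (composite V V').toSubring fun a =>
      ⟨(τ'.hom a).2, by
        show residue V (τ'.hom a) ∈ V'
        rw [key' a]
        exact (σ.hom a).2⟩
  refine ⟨Spec.map (CommRingCat.ofHom ψ) ≫ T.fromSpecStalk y₁, ?_, ?_⟩
  · rw [← Spec.map_comp_assoc, ← hτ']
    rfl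
  · rw [← Spec.map_comp_assoc, ← hσ]
    refine congrArg (fun s => Spec.map s ≫ T.fromSpecStalk y₁) ?_
    ext a
    exact key' a

/-- The restriction of `g` to the induced valuation ring. -/
def comapMap {F K : Type u} [Field F] [Field K] (g : F →+* K) (R : ValuationSubring K) :
    R.comap g →+* R :=
  (g.comp (R.comap g).subtype).codRestrict R.toSubring fun x => x.2

theorem isLocalHom_of_subtype_eq {F K : Type u} [Field F] [Field K] (g : F →+* K)
    (R : ValuationSubring K) (ρ : R.comap g →+* R)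
    (hρ : ∀ x : R.comap g, (ρ x : K) = g x) : IsLocalHom ρ := by
  refine ⟨fun x hx => ?_⟩
  obtain ⟨b, hb⟩ := isUnit_iff_exists_inv.mp hx
  have h1 : g x * (b : K) = 1 := by
    rw [← hρ]
    exact congrArg Subtype.val hb
  have hx0 : (x : F) ≠ 0 := fun h0 => by simp [h0] at h1
  have hmem : ((x : F))⁻¹ ∈ R.comap g := by
    show g ((x : F))⁻¹ ∈ R
    rw [map_inv₀, ← eq_inv_of_mul_eq_one_right h1]
    exact b.2
  exact isUnit_iff_exists_inv.mpr ⟨⟨_, hmem⟩, Subtype.ext (mul_inv_cancel₀ hx0)⟩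

/-- A morphism from a valuation ring factors through the induced valuation ring of a subfield. -/
theorem exists_factor {X : Scheme.{u}} {F K : Type u} [Field F] [Field K] (g : F →+* K)
    (R : ValuationSubring K) (φ : Spec (CommRingCat.of R) ⟶ X) (u₀ : Spec (CommRingCat.of F) ⟶ X)
    (w : Spec.map (CommRingCat.ofHom R.subtype) ≫ φ = Spec.map (CommRingCat.ofHom g) ≫ u₀)
    (ρ : R.comap g →+* R) (hρ : ∀ x : R.comap g, (ρ x : K) = g x) :
    ∃ φ' : Spec (CommRingCat.of (R.comap g)) ⟶ X,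
      Spec.map (CommRingCat.ofHom ρ) ≫ φ' = φ ∧
        Spec.map (CommRingCat.ofHom (R.comap g).subtype) ≫ φ' = u₀ := by
  set x₁ := φ (closedPoint R)
  set p := u₀ (closedPoint F)
  have hp : p ⤳ x₁ := by
    let pt : Spec (CommRingCat.of K) := closedPoint K
    have h1 := congr($(w) pt)
    rw [Scheme.Hom.comp_apply, Scheme.Hom.comp_apply, map_closedPoint g] at h1
    have h2 : p = φ (Spec.map (CommRingCat.ofHom R.subtype) pt) := h1.symm
    rw [h2]
    exact (specializes_closedPoint _).map φ.continuous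
  let τ : X.presheaf.stalk p ⟶ CommRingCat.of F := Scheme.stalkClosedPointTo u₀
  have hτ : Spec.map τ ≫ X.fromSpecStalk p = u₀ := Scheme.Spec_stalkClosedPointTo_fromSpecStalk u₀
  let σ : X.presheaf.stalk x₁ ⟶ CommRingCat.of R := Scheme.stalkClosedPointTo φ
  have hσ : Spec.map σ ≫ X.fromSpecStalk x₁ = φ := Scheme.Spec_stalkClosedPointTo_fromSpecStalk φ
  let τ' : X.presheaf.stalk x₁ ⟶ CommRingCat.of F := X.presheaf.stalkSpecializes hp ≫ τ
  have hτ' : Spec.map τ' ≫ X.fromSpecStalk x₁ = u₀ := by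
    rw [Spec.map_comp, Category.assoc, Scheme.SpecMap_stalkSpecializes_fromSpecStalk, hτ]
  have key : σ ≫ CommRingCat.ofHom R.subtype = τ' ≫ CommRingCat.ofHom g := by
    apply Spec.map_injective
    rw [← cancel_mono (X.fromSpecStalk x₁), Spec.map_comp, Category.assoc, hσ, Spec.map_comp,
      Category.assoc, hτ', w]
  have key' : ∀ a, g (τ'.hom a) = (σ.hom a : K) := fun a => (congr($(key).hom a)).symm
  let ψ : X.presheaf.stalk x₁ →+* R.comap g :=
    τ'.hom.codRestrict (R.comap g).toSubring fun a => by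
      show g (τ'.hom a) ∈ R
      rw [key' a]
      exact (σ.hom a).2
  refine ⟨Spec.map (CommRingCat.ofHom ψ) ≫ X.fromSpecStalk x₁, ?_, ?_⟩
  · rw [← Spec.map_comp_assoc, ← hσ]
    refine congrArg (fun s => Spec.map s ≫ X.fromSpecStalk x₁) ?_
    ext a
    exact (hρ _).trans (key' a)
  · rw [← Spec.map_comp_assoc, ← hτ']
    rfl

/-- `R.comap g = R₀` when `R` dominates `R₀`. -/
theorem comap_eq_of_isLocalHom {F K : Type u} [Field F] [Field K] (g : F →+* K)
    (R₀ : ValuationSubring F) (R : ValuationSubring K) (h : ∀ x, (g.comp R₀.subtype) x ∈ R)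
    (hloc : IsLocalHom ((g.comp R₀.subtype).codRestrict R.toSubring h)) :
    R.comap g = R₀ := by
  refine le_antisymm ?_ fun z hz => h ⟨z, hz⟩
  intro z hz
  by_contra hzV
  have hzi := (R₀.mem_or_inv_mem z).resolve_left hzV
  have hz0 : z ≠ 0 := fun h0 => hzV (h0 ▸ R₀.zero_mem)
  have hu : IsUnit (⟨z⁻¹, hzi⟩ : R₀) := by
    refine hloc.map_nonunit _ (isUnit_iff_exists_inv.mpr ⟨⟨g z, hz⟩, Subtype.ext ?_⟩)
    show g z⁻¹ * g z = 1
    rw [← map_mul, inv_mul_cancel₀ hz0, map_one]
  obtain ⟨w, hw⟩ := isUnit_iff_exists_inv.mp hu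
  have : (w : F) = z := by
    have h1 : z⁻¹ * (w : F) = 1 := congrArg Subtype.val hw
    rw [← mul_one z, ← h1, ← mul_assoc, mul_inv_cancel₀ hz0, one_mul]
  exact hzV (this ▸ w.2)

variable {X Y Z : Scheme.{u}}

/-- Uniqueness over residue fields of a dominating `Z` gives uniqueness of all lifts. -/
theorem uniq_valuationSubring (h : Z ⟶ Y) (f : Y ⟶ X) [QuasiCompact h] (hd : DenseRange h.base)
    (H : ∀ (z : ↥Z) (R : ValuationSubring ↑(Z.residueField z)) (φ₁ φ₂ : Spec (CommRingCat.of ↥R) ⟶ Y),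
      Spec.map (CommRingCat.ofHom R.subtype) ≫ φ₁ = Z.fromSpecResidueField z ≫ h →
      Spec.map (CommRingCat.ofHom R.subtype) ≫ φ₂ = Z.fromSpecResidueField z ≫ h →
      φ₁ ≫ f = φ₂ ≫ f → φ₁ = φ₂)
    {K : Type u} [Field K] (R : ValuationSubring K) (l₁ l₂ : Spec (CommRingCat.of R) ⟶ Y)
    (hgen : Spec.map (CommRingCat.ofHom R.subtype) ≫ l₁ =
      Spec.map (CommRingCat.ofHom R.subtype) ≫ l₂)
    (hf : l₁ ≫ f = l₂ ≫ f) : l₁ = l₂ := by
  refine ext_of_closedPoint R l₁ l₂ ?_ hgen
  set i := Spec.map (CommRingCat.ofHom R.subtype) ≫ l₁ with hi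
  set y := i (closedPoint K)
  let g : Y.residueField y ⟶ CommRingCat.of K := Y.descResidueField (Scheme.stalkClosedPointTo i)
  have hg : Spec.map g ≫ Y.fromSpecResidueField y = i :=
    Scheme.descResidueField_stalkClosedPointTo_fromSpecResidueField K Y i
  set R₀ : ValuationSubring (Y.residueField y) := R.comap g.hom
  let ρ : R₀ →+* R := comapMap g.hom R
  have hρloc : IsLocalHom ρ := isLocalHom_of_subtype_eq g.hom R ρ fun _ => rfl
  obtain ⟨m₁, hm₁, hm₁'⟩ :=
    exists_factor g.hom R l₁ (Y.fromSpecResidueField y) hg.symm ρ fun _ => rfl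
  obtain ⟨m₂, hm₂, hm₂'⟩ :=
    exists_factor g.hom R l₂ (Y.fromSpecResidueField y) (hgen.symm.trans hg.symm) ρ fun _ => rfl
  have hc₁ : l₁ (closedPoint R) = m₁ (closedPoint R₀) := by
    rw [← hm₁, Scheme.Hom.comp_apply, map_closedPoint ρ]
  have hc₂ : l₂ (closedPoint R) = m₂ (closedPoint R₀) := by
    rw [← hm₂, Scheme.Hom.comp_apply, map_closedPoint ρ]
  have hfc : f (m₁ (closedPoint R₀)) = f (m₂ (closedPoint R₀)) := by
    rw [← hc₁, ← hc₂, ← Scheme.Hom.comp_apply, ← Scheme.Hom.comp_apply, hf]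
  rw [hc₁, hc₂]
  obtain ⟨z, hz⟩ := FpqcDescent.exists_specializes_of_mem_closure h (x := y) (hd y)
  obtain ⟨V, hV, hVloc⟩ := exists_factor_valuationRing (toResidue h z hz).hom
  let ψ : Y.presheaf.stalk y →+* V := (toResidue h z hz).hom.codRestrict V.toSubring hV
  have : IsLocalHom ψ := hVloc
  let gV : Spec (CommRingCat.of V) ⟶ Y := centreMap V (toResidue h z hz).hom hV
  have hgV : Spec.map (CommRingCat.ofHom V.subtype) ≫ gV = Z.fromSpecResidueField z ≫ h := by
    rw [subtype_centreMap]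
    exact SpecMap_toResidue_fromSpecStalk h z hz
  let j : Y.residueField y →+* ResidueField V := ResidueField.map ψ
  have hgVres : Spec.map (CommRingCat.ofHom (residue V)) ≫ gV =
      Spec.map (CommRingCat.ofHom j) ≫ Y.fromSpecResidueField y := by
    simp only [gV, centreMap, Scheme.fromSpecResidueField, ← Spec.map_comp_assoc]
    rfl
  obtain ⟨Rt, hRt, hRtloc⟩ := exists_factor_valuationRing (j.comp R₀.subtype)
  let ρ₀ : R₀ →+* Rt := (j.comp R₀.subtype).codRestrict Rt.toSubring hRt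
  have : IsLocalHom ρ₀ := hRtloc
  have hw : ∀ m : Spec (CommRingCat.of R₀) ⟶ Y,
      Spec.map (CommRingCat.ofHom R₀.subtype) ≫ m = Y.fromSpecResidueField y →
      Spec.map (CommRingCat.ofHom Rt.subtype) ≫ Spec.map (CommRingCat.ofHom ρ₀) ≫ m =
        Spec.map (CommRingCat.ofHom (residue V)) ≫ gV := by
    intro m hm
    rw [hgVres, ← hm, ← Spec.map_comp_assoc, ← Spec.map_comp_assoc]
    rfl
  obtain ⟨p₁, hp₁, hp₁'⟩ := exists_glue V Rt gV _ (hw m₁ hm₁')
  obtain ⟨p₂, hp₂, hp₂'⟩ := exists_glue V Rt gV _ (hw m₂ hm₂')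
  have hq₁ : p₁ (closedPoint (composite V Rt)) = m₁ (closedPoint R₀) := by
    have h1 := congr($(hp₁') (closedPoint Rt))
    rwa [Scheme.Hom.comp_apply, Scheme.Hom.comp_apply, map_closedPoint (compositeRes V Rt),
      map_closedPoint ρ₀] at h1
  have hq₂ : p₂ (closedPoint (composite V Rt)) = m₂ (closedPoint R₀) := by
    have h1 := congr($(hp₂') (closedPoint Rt))
    rwa [Scheme.Hom.comp_apply, Scheme.Hom.comp_apply, map_closedPoint (compositeRes V Rt),
      map_closedPoint ρ₀] at h1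
  have hgen' : ∀ p : Spec (CommRingCat.of (composite V Rt)) ⟶ Y,
      Spec.map (CommRingCat.ofHom (incl V Rt)) ≫ p = gV →
      Spec.map (CommRingCat.ofHom (composite V Rt).subtype) ≫ p =
        Z.fromSpecResidueField z ≫ h := by
    intro p hp
    rw [← hgV, ← hp, ← Spec.map_comp_assoc]
    rfl
  have hff : p₁ ≫ f = p₂ ≫ f := by
    refine ext_of_closedPoint _ _ _ ?_ ?_
    · rw [Scheme.Hom.comp_apply, Scheme.Hom.comp_apply, hq₁, hq₂, hfc]
    · rw [← Category.assoc, ← Category.assoc, hgen' p₁ hp₁, hgen' p₂ hp₂]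
  rw [← hq₁, ← hq₂, H z _ p₁ p₂ (hgen' p₁ hp₁) (hgen' p₂ hp₂) hff]

end Groth.Agent.ValComp
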