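import Groth.Agent.UnramLib.FlatUnram
/-!
An extension of valuation rings composed of two étale extensions is étale.
-/
set_option autoImplicit false
set_option linter.style.haveILetI false
universe u
open IsLocalRing

namespace Groth.Agent.ValComp

/-- With finitely many primes, localisation at a prime inverts one element. -/
theorem exists_dvd_pow {A : Type u} [CommRing A] [Finite (PrimeSpectrum A)] (p : Ideal A) [p.IsPrime] :
    ∃ t ∉ p, (∀ q : Ideal A, q.IsPrime → ¬ q ≤ p → t ∈ q) ∧ ∀ s ∉ p, ∃ n : ℕ, s ∣ t ^ n := by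
  classical
  haveI := Fintype.ofFinite (PrimeSpectrum A)
  let F := (Finset.univ : Finset (PrimeSpectrum A)).filter fun q => ¬ q.asIdeal ≤ p
  have hF : ¬ F.inf (·.asIdeal) ≤ p := fun h => by
    obtain ⟨q, hq, hqp⟩ := (Ideal.IsPrime.inf_le' ‹p.IsPrime›).1 h
    exact (Finset.mem_filter.1 hq).2 hqp
  obtain ⟨t, ht, htp⟩ := SetLike.not_le_iff_exists.1 hF
  have hmem : ∀ q : Ideal A, q.IsPrime → ¬ q ≤ p → t ∈ q := fun q hq hqp =>
    Finset.inf_le (f := fun q : PrimeSpectrum A => q.asIdeal) (b := ⟨q, hq⟩) (Finset.mem_filter.2 ⟨Finset.mem_univ _, hqp⟩) ht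
  refine ⟨t, htp, hmem, fun s hs => ?_⟩
  have : t ∈ (Ideal.span {s}).radical := by
    rw [Ideal.radical_eq_sInf, Submodule.mem_sInf]
    rintro q ⟨hsq, hq⟩
    exact hmem q hq fun h => hs (h (hsq (Ideal.mem_span_singleton_self s)))
  obtain ⟨n, hn⟩ := this
  exact ⟨n, Ideal.mem_span_singleton.1 hn⟩

variable {A B : Type u} [CommRing A] [CommRing B] [IsDomain A] [IsDomain B] [ValuationRing A] [ValuationRing B]
  [Algebra A B] [IsLocalHom (algebraMap A B)]

theorem flat (hinj : Function.Injective (algebraMap A B)) : Module.Flat A B := by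
  rw [Module.Flat.flat_iff_torsion_eq_bot_of_isBezout, ← Submodule.isTorsionFree_iff_torsion_eq_bot]
  haveI : FaithfulSMul A B := (faithfulSMul_iff_algebraMap_injective A B).2 hinj
  infer_instance

omit [IsDomain A] [ValuationRing A] [IsLocalHom (algebraMap A B)] in
theorem exists_mul_pow {p : Ideal A} [p.IsPrime] {P : Ideal B} [P.IsPrime] [P.LiesOver p]
    [Finite (PrimeSpectrum A)] [Finite (PrimeSpectrum B)]
    [Algebra.QuasiFinite (A ⧸ p) (B ⧸ P)] {t : A} (ht : ∀ q : Ideal A, q.IsPrime → ¬ q ≤ p → t ∈ q)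
    (htp : t ∉ p) (s : B) (hs : s ∉ P) : ∃ n : ℕ, s ∣ algebraMap A B t ^ n := by
  have : algebraMap A B t ∈ (Ideal.span {s}).radical := by
    rw [Ideal.radical_eq_sInf, Submodule.mem_sInf]
    rintro (Q : Ideal B) ⟨hsQ, hQ⟩
    haveI : Q.IsPrime := hQ
    have hPQ : P ≤ Q := ((ValuationRing.iff_ideal_total.1 inferInstance).total P Q).resolve_right
      fun h => hs (h (hsQ (Ideal.mem_span_singleton_self s)))
    refine ht (Q.comap (algebraMap A B)) (Ideal.IsPrime.comap _) fun hle => hs ?_
    have hcm : (Q.map (Ideal.Quotient.mk P)).comap (Ideal.Quotient.mk P) = Q := by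
      rw [Ideal.comap_map_of_surjective _ Ideal.Quotient.mk_surjective, ← RingHom.ker_eq_comap_bot,
        Ideal.mk_ker, sup_eq_left.2 hPQ]
    haveI : (Q.map (Ideal.Quotient.mk P)).IsPrime :=
      Ideal.map_isPrime_of_surjective Ideal.Quotient.mk_surjective (by rwa [Ideal.mk_ker])
    have h := Algebra.QuasiFinite.eq_of_le_of_under_eq (R := A ⧸ p) (⊥ : Ideal (B ⧸ P))
      (Q.map (Ideal.Quotient.mk P)) bot_le (by
        ext x
        obtain ⟨a, rfl⟩ := Ideal.Quotient.mk_surjective x
        show algebraMap (A ⧸ p) (B ⧸ P) (Ideal.Quotient.mk p a) ∈ (⊥ : Ideal (B ⧸ P)) ↔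
          algebraMap (A ⧸ p) (B ⧸ P) (Ideal.Quotient.mk p a) ∈ Q.map (Ideal.Quotient.mk P)
        rw [Ideal.mem_bot, Ideal.Quotient.algebraMap_mk_of_liesOver, Ideal.Quotient.eq_zero_iff_mem,
          ← Ideal.mem_comap (f := Ideal.Quotient.mk P), hcm, Ideal.mem_of_liesOver P p]
          at *
        exact ⟨fun h => hPQ h, fun h => (Ideal.mem_of_liesOver P p a).1 (hle h)⟩)
    have hs0 : Ideal.Quotient.mk P s ∈ Q.map (Ideal.Quotient.mk P) :=
      Ideal.mem_map_of_mem _ (hsQ (Ideal.mem_span_singleton_self s))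
    rwa [← h, Ideal.mem_bot, Ideal.Quotient.eq_zero_iff_mem] at hs0
  obtain ⟨n, hn⟩ := this
  exact ⟨n, Ideal.mem_span_singleton.1 hn⟩

theorem etale_of_composite [Finite (PrimeSpectrum A)] [Finite (PrimeSpectrum B)]
    (hinj : Function.Injective (algebraMap A B)) (P : Ideal B) [P.IsPrime]
    (hA : (Localization.localRingHom (P.comap (algebraMap A B)) P (algebraMap A B) rfl).Etale)
    (hB : (Ideal.quotientMap P (algebraMap A B) (le_refl (P.comap (algebraMap A B)))).Etale) :
    Algebra.Etale A B := by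
  classical
  let p : Ideal A := P.comap (algebraMap A B)
  haveI : p.IsPrime := Ideal.IsPrime.comap _
  haveI : P.LiesOver p := ⟨rfl⟩
  haveI : Algebra.Etale (A ⧸ p) (B ⧸ P) := RingHom.etale_algebraMap.1 hB
  haveI : Algebra.QuasiFinite (A ⧸ p) (B ⧸ P) :=
    ⟨fun Q _ => Algebra.FormallyUnramified.finite_of_free Q.ResidueField _⟩
  letI : Algebra (Localization.AtPrime p) (Localization.AtPrime P) :=
    (Localization.localRingHom p P (algebraMap A B) rfl).toAlgebra
  haveI : Algebra.Etale (Localization.AtPrime p) (Localization.AtPrime P) := RingHom.etale_algebraMap.1 hA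
  haveI : IsLocalHom (algebraMap (Localization.AtPrime p) (Localization.AtPrime P)) :=
    Localization.isLocalHom_localRingHom p P _ rfl
  have hmax := Algebra.FormallyUnramified.map_maximalIdeal (R := Localization.AtPrime p)
    (S := Localization.AtPrime P)
  obtain ⟨t, htp, ht, htdvd⟩ := exists_dvd_pow p
  have hBdvd : ∀ s ∉ P, ∃ n : ℕ, s ∣ algebraMap A B t ^ n := exists_mul_pow (P := P) ht htp
  let ι := algebraMap B (Localization.AtPrime P)
  have hι : Function.Injective ι :=
    IsLocalization.injective _ P.primeCompl_le_nonZeroDivisors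
  let T : Localization.AtPrime P := ι (algebraMap A B t)
  have hloc : ∀ a : A, algebraMap (Localization.AtPrime p) (Localization.AtPrime P) (algebraMap A _ a) =
      ι (algebraMap A B a) := fun a => Localization.localRingHom_to_map p P _ rfl a
  -- generators
  obtain ⟨U, hU⟩ := (inferInstance : Algebra.FiniteType (Localization.AtPrime p) (Localization.AtPrime P)).out
  have hclear : ∀ z : Localization.AtPrime P, ∃ (v : B) (n : ℕ), z * T ^ n = ι v := by
    intro z
    obtain ⟨⟨b, ⟨s, hs⟩⟩, hz⟩ := IsLocalization.surj P.primeCompl z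
    obtain ⟨n, c, hc⟩ := hBdvd s hs
    refine ⟨b * c, n, ?_⟩
    simp only [T, ← map_pow, hc, map_mul, ι] at hz ⊢
    rw [← mul_assoc, hz]
  choose v n hv using hclear
  obtain ⟨E, hE⟩ := (inferInstance : Algebra.FiniteType (A ⧸ p) (B ⧸ P)).out
  choose l hl using Ideal.Quotient.mk_surjective (I := P)
  let C : Subalgebra A B := Algebra.adjoin A ((U.image v ∪ E.image l : Finset B) : Set B)
  have hgenA : ∀ z : Localization.AtPrime P, ∃ c ∈ C, ∃ m : ℕ, z * T ^ m = ι c := by
    intro z
    have hz : z ∈ Algebra.adjoin (Localization.AtPrime p) (U : Set (Localization.AtPrime P)) := by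
      rw [hU]; trivial
    induction hz using Algebra.adjoin_induction with
    | mem x hx =>
      exact ⟨v x, Algebra.subset_adjoin (Finset.mem_coe.2
        (Finset.mem_union_left _ (Finset.mem_image_of_mem v hx))), n x, hv x⟩
    | algebraMap r =>
      obtain ⟨⟨a, ⟨s, hs⟩⟩, hr⟩ := IsLocalization.surj p.primeCompl r
      obtain ⟨m, c, hc⟩ := htdvd s hs
      refine ⟨algebraMap A B (a * c), C.algebraMap_mem _, m, ?_⟩
      have h1 := congrArg (algebraMap (Localization.AtPrime p) (Localization.AtPrime P)) hr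
      rw [map_mul, hloc, hloc] at h1
      simp only [T, ← map_pow, hc, map_mul]
      rw [← mul_assoc, h1]
    | add x y _ _ hx hy =>
      obtain ⟨c, hc, m, hm⟩ := hx
      obtain ⟨c', hc', m', hm'⟩ := hy
      refine ⟨c * algebraMap A B t ^ m' + c' * algebraMap A B t ^ m, add_mem
        (mul_mem hc (pow_mem (C.algebraMap_mem _) _)) (mul_mem hc' (pow_mem (C.algebraMap_mem _) _)), m + m', ?_⟩
      simp only [map_add, map_mul, map_pow, ← hm, ← hm', T, pow_add]
      ring
    | mul x y _ _ hx hy =>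
      obtain ⟨c, hc, m, hm⟩ := hx
      obtain ⟨c', hc', m', hm'⟩ := hy
      refine ⟨c * c', mul_mem hc hc', m + m', ?_⟩
      rw [map_mul, ← hm, ← hm', pow_add]
      ring
  have hP : ∀ x ∈ P, x ∈ C ∧ x ∈ p.map (algebraMap A B) := by
    intro x hx
    have hxm : ι x ∈ maximalIdeal (Localization.AtPrime P) :=
      (IsLocalization.AtPrime.to_map_mem_maximal_iff _ P x).2 hx
    rw [← hmax, ← Localization.AtPrime.map_eq_maximalIdeal, Ideal.map_map] at hxm
    suffices h : ∀ y ∈ p.map ((algebraMap (Localization.AtPrime p) (Localization.AtPrime P)).comp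
        (algebraMap A (Localization.AtPrime p))),
        ∀ z, ∃ c, c ∈ C ∧ c ∈ p.map (algebraMap A B) ∧ z * y = ι c by
      obtain ⟨c, hcC, hcp, hc⟩ := h _ hxm 1
      rw [one_mul] at hc
      exact hι hc ▸ ⟨hcC, hcp⟩
    intro y hy
    induction hy using Submodule.span_induction with
    | mem y hy =>
      obtain ⟨a, ha, rfl⟩ := hy
      intro z
      obtain ⟨c, hc, m, hm⟩ := hgenA z
      have htm : t ^ m ∉ p := fun h => htp (Ideal.IsPrime.mem_of_pow_mem inferInstance m h)
      obtain ⟨a', rfl⟩ : t ^ m ∣ a := (ValuationRing.dvd_total (t ^ m) a).resolve_right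
        fun ⟨w, hw⟩ => htm (hw ▸ p.mul_mem_right w ha)
      have ha' : a' ∈ p := (Ideal.IsPrime.mem_or_mem inferInstance ha).resolve_left htm
      refine ⟨algebraMap A B a' * c, mul_mem (C.algebraMap_mem _) hc,
        Ideal.mul_mem_right _ _ (Ideal.mem_map_of_mem _ ha'), ?_⟩
      simp only [RingHom.comp_apply, hloc, map_mul, map_pow, ← hm, T]
      ring
    | zero => exact fun z => ⟨0, zero_mem _, zero_mem _, by simp⟩
    | add y y' _ _ hy hy' =>
      intro z
      obtain ⟨c, hc, hcp, hcz⟩ := hy z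
      obtain ⟨c', hc', hcp', hcz'⟩ := hy' z
      exact ⟨c + c', add_mem hc hc', add_mem hcp hcp', by rw [mul_add, map_add, hcz, hcz']⟩
    | smul r y _ hy =>
      intro z
      obtain ⟨c, hc, hcp, hcz⟩ := hy (z * r)
      exact ⟨c, hc, hcp, by rw [smul_eq_mul, ← mul_assoc, hcz]⟩
  haveI : Algebra.FiniteType A B := by
    refine ⟨⟨U.image v ∪ E.image l, ?_⟩⟩
    rw [eq_top_iff]
    intro b _
    have hb : Ideal.Quotient.mk P b ∈ Algebra.adjoin (A ⧸ p) (E : Set (B ⧸ P)) := by rw [hE]; trivial
    obtain ⟨c, hc, hcb⟩ : ∃ c ∈ C, Ideal.Quotient.mk P c = Ideal.Quotient.mk P b := by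
      generalize Ideal.Quotient.mk P b = z at hb
      induction hb using Algebra.adjoin_induction with
      | mem x hx =>
        exact ⟨l x, Algebra.subset_adjoin (Finset.mem_coe.2
          (Finset.mem_union_right _ (Finset.mem_image_of_mem l hx))), hl x⟩
      | algebraMap r =>
        obtain ⟨a, rfl⟩ := Ideal.Quotient.mk_surjective r
        exact ⟨algebraMap A B a, C.algebraMap_mem _, rfl⟩
      | add x y _ _ hx hy =>
        obtain ⟨c, hc, rfl⟩ := hx
        obtain ⟨c', hc', rfl⟩ := hy
        exact ⟨c + c', add_mem hc hc', map_add _ _ _⟩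
      | mul x y _ _ hx hy =>
        obtain ⟨c, hc, rfl⟩ := hx
        obtain ⟨c', hc', rfl⟩ := hy
        exact ⟨c * c', mul_mem hc hc', map_mul _ _ _⟩
    have := add_mem hc (hP _ ((Ideal.Quotient.eq (I := P)).1 hcb.symm)).1
    rwa [add_sub_cancel] at this
  -- unramified
  haveI := IsLocalRing.of_surjective' (Ideal.Quotient.mk P) Ideal.Quotient.mk_surjective
  haveI := IsLocalRing.of_surjective' (Ideal.Quotient.mk p) Ideal.Quotient.mk_surjective
  haveI : IsLocalHom (algebraMap (A ⧸ p) (B ⧸ P)) := ⟨fun x hx => by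
    obtain ⟨a, rfl⟩ := Ideal.Quotient.mk_surjective x
    by_contra h
    have ha : a ∈ maximalIdeal A := fun hu => h (hu.map _)
    have : algebraMap A B a ∈ maximalIdeal B := map_nonunit (algebraMap A B) a ha
    obtain ⟨w, hw⟩ := Ideal.Quotient.mk_surjective (hx.unit⁻¹ : (B ⧸ P)ˣ).1
    have h1 : algebraMap A B a * w - 1 ∈ P := by
      rw [← Ideal.Quotient.eq_zero_iff_mem, map_sub, map_mul, hw, map_one, sub_eq_zero]
      exact hx.mul_val_inv
    refine (maximalIdeal.isMaximal B).ne_top ((Ideal.eq_top_iff_one _).2 ?_)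
    have h2 := sub_mem (Ideal.mul_mem_right w _ this) (le_maximalIdeal (Ideal.IsPrime.ne_top ‹_›) h1)
    rwa [sub_sub_cancel] at h2⟩
  have hmaxB : (maximalIdeal A).map (algebraMap A B) = maximalIdeal B := by
    refine le_antisymm (Ideal.map_le_iff_le_comap.2 fun a ha => map_nonunit (algebraMap A B) a ha) fun x hx => ?_
    have hx' : Ideal.Quotient.mk P x ∈ maximalIdeal (B ⧸ P) := fun hu => by
      obtain ⟨w, hw⟩ := Ideal.Quotient.mk_surjective (hu.unit⁻¹ : (B ⧸ P)ˣ).1
      have h1 : x * w - 1 ∈ P := by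
        rw [← Ideal.Quotient.eq_zero_iff_mem, map_sub, map_mul, hw, map_one, sub_eq_zero]
        exact hu.mul_val_inv
      refine (maximalIdeal.isMaximal B).ne_top ((Ideal.eq_top_iff_one _).2 ?_)
      have h2 := sub_mem (Ideal.mul_mem_right w _ hx) (le_maximalIdeal (Ideal.IsPrime.ne_top ‹_›) h1)
      rwa [sub_sub_cancel] at h2
    rw [← Algebra.FormallyUnramified.map_maximalIdeal (R := A ⧸ p) (S := B ⧸ P)] at hx'
    have hle : (maximalIdeal (A ⧸ p)).map (algebraMap (A ⧸ p) (B ⧸ P)) ≤
        ((maximalIdeal A).map (algebraMap A B)).map (Ideal.Quotient.mk P) := by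
      rw [Ideal.map_map, Ideal.map_le_iff_le_comap]
      intro r hr
      obtain ⟨a, rfl⟩ := Ideal.Quotient.mk_surjective r
      have ha : a ∈ maximalIdeal A := fun hu => hr (hu.map _)
      exact Ideal.mem_map_of_mem ((Ideal.Quotient.mk P).comp (algebraMap A B)) ha
    obtain ⟨y, hy, hyx⟩ := (Ideal.mem_map_iff_of_surjective _ Ideal.Quotient.mk_surjective).1 (hle hx')
    have hp : p ≤ maximalIdeal A := le_maximalIdeal (Ideal.IsPrime.ne_top ‹_›)
    have := add_mem hy (Ideal.map_mono hp (hP _ ((Ideal.Quotient.eq (I := P)).1 hyx.symm)).2)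
    rwa [add_sub_cancel] at this
  haveI : Module.Flat A B := flat hinj
  haveI : Algebra.FormallyUnramified A B := by
    rw [Algebra.FormallyUnramified.iff_map_maximalIdeal_eq]
    refine ⟨?_, hmaxB⟩
    haveI : Algebra.FormallyUnramified A (ResidueField B) := by
      haveI : Algebra.FormallyUnramified A (A ⧸ p) := inferInstance
      haveI : Algebra.FormallyUnramified A (B ⧸ P) := Algebra.FormallyUnramified.comp A (A ⧸ p) _
      let f : B ⧸ P →ₐ[A] ResidueField B :=
        Ideal.Quotient.liftₐ P (IsScalarTower.toAlgHom A B _) fun x hx =>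
          (residue_eq_zero_iff _).2 (le_maximalIdeal (Ideal.IsPrime.ne_top ‹_›) hx)
      exact Algebra.FormallyUnramified.of_surjective f fun y => by
        obtain ⟨x, rfl⟩ := residue_surjective y
        exact ⟨Ideal.Quotient.mk P x, rfl⟩
    haveI : Algebra.FormallyUnramified (ResidueField A) (ResidueField B) :=
      .of_restrictScalars A _ _
    haveI : Algebra.FiniteType A (ResidueField B) :=
      Algebra.FiniteType.of_surjective (IsScalarTower.toAlgHom A B (ResidueField B)) residue_surjective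
    haveI : Algebra.EssFiniteType (ResidueField A) (ResidueField B) := .of_comp A _ _
    exact Algebra.FormallyUnramified.isSeparable _ _
  haveI : Algebra.FinitePresentation A B :=
    UnramLib.finitePresentation_of_flat_of_formallyUnramified A B
      (Set.Finite.subset (Set.finite_range (PrimeSpectrum.asIdeal : PrimeSpectrum A → Ideal A))
        fun q hq => ⟨⟨q, hq.1.1⟩, rfl⟩)
  exact Algebra.Etale.of_formallyUnramified_of_flat

end Groth.Agent.ValComp
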