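import Groth.Agent.ValComp.Basic

/-!
# Existence of lifts from a dominating `Z`
-/

universe u

open CategoryTheory AlgebraicGeometry IsLocalRing

set_option backward.isDefEq.respectTransparency false

namespace Groth.Agent.ValComp

open Groth.Agent.DvrDom

variable {X Y Z : Scheme.{u}}

/-- Existence and uniqueness over residue fields of a dominating `Z` give existence of all lifts. -/
theorem exists_lift_of_uniq (h : Z ⟶ Y) (f : Y ⟶ X) [QuasiCompact h]
    (hd : DenseRange h.base)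
    (Hu : ∀ (z : ↥Z) (R : ValuationSubring ↑(Z.residueField z))
      (φ₁ φ₂ : Spec (CommRingCat.of ↥R) ⟶ Y),
      Spec.map (CommRingCat.ofHom R.subtype) ≫ φ₁ = Z.fromSpecResidueField z ≫ h →
      Spec.map (CommRingCat.ofHom R.subtype) ≫ φ₂ = Z.fromSpecResidueField z ≫ h →
      φ₁ ≫ f = φ₂ ≫ f → φ₁ = φ₂)
    (H : ∀ (z : ↥Z) (R : ValuationSubring ↑(Z.residueField z)) (φ : Spec (CommRingCat.of ↥R) ⟶ X),
      Spec.map (CommRingCat.ofHom R.subtype) ≫ φ = Z.fromSpecResidueField z ≫ h ≫ f →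
      ∃ l : Spec (CommRingCat.of ↥R) ⟶ Y,
        Spec.map (CommRingCat.ofHom R.subtype) ≫ l = Z.fromSpecResidueField z ≫ h ∧ l ≫ f = φ)
    {K : Type u} [Field K] (R : ValuationSubring K) (i : Spec (CommRingCat.of K) ⟶ Y)
    (φ : Spec (CommRingCat.of R) ⟶ X)
    (w : Spec.map (CommRingCat.ofHom R.subtype) ≫ φ = i ≫ f) :
    ∃ l : Spec (CommRingCat.of R) ⟶ Y,
      Spec.map (CommRingCat.ofHom R.subtype) ≫ l = i ∧ l ≫ f = φ := by
  set y := i (closedPoint K)
  let g : Y.residueField y ⟶ CommRingCat.of K := Y.descResidueField (Scheme.stalkClosedPointTo i)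
  have hg : Spec.map g ≫ Y.fromSpecResidueField y = i :=
    Scheme.descResidueField_stalkClosedPointTo_fromSpecResidueField K Y i
  set R₀ : ValuationSubring (Y.residueField y) := R.comap g.hom with hR₀
  let ρ : R₀ →+* R := comapMap g.hom R
  have hρloc : IsLocalHom ρ := isLocalHom_of_subtype_eq g.hom R ρ fun _ => rfl
  obtain ⟨φ₀, hφ₀, hφ₀'⟩ := exists_factor g.hom R φ (Y.fromSpecResidueField y ≫ f)
    (by rw [w, ← hg, Category.assoc]; rfl) ρ fun _ => rfl
  obtain ⟨z, hz⟩ := FpqcDescent.exists_specializes_of_mem_closure h (x := y) (hd y)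
  obtain ⟨V, hV, hVloc⟩ := exists_factor_valuationRing (toResidue h z hz).hom
  let ψ : Y.presheaf.stalk y →+* V := (toResidue h z hz).hom.codRestrict V.toSubring hV
  have : IsLocalHom ψ := hVloc
  let gV : Spec (CommRingCat.of V) ⟶ Y := centreMap V (toResidue h z hz).hom hV
  have hgV : Spec.map (CommRingCat.ofHom V.subtype) ≫ gV = Z.fromSpecResidueField z ≫ h := by
    rw [subtype_centreMap]
    exact SpecMap_toResidue_fromSpecStalk h z hz
  let j : Y.residueField y →+* ResidueField V := ResidueField.map ψ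
  have hgVres : Spec.map (CommRingCat.ofHom (residue V)) ≫ gV =
      Spec.map (CommRingCat.ofHom j) ≫ Y.fromSpecResidueField y := by
    simp only [gV, centreMap, Scheme.fromSpecResidueField, ← Spec.map_comp_assoc]
    rfl
  obtain ⟨Rt, hRt, hRtloc⟩ := exists_factor_valuationRing (j.comp R₀.subtype)
  let ρ₀ : R₀ →+* Rt := (j.comp R₀.subtype).codRestrict Rt.toSubring hRt
  have : IsLocalHom ρ₀ := hRtloc
  obtain ⟨φW, hW, hW'⟩ := exists_glue V Rt (gV ≫ f) (Spec.map (CommRingCat.ofHom ρ₀) ≫ φ₀) (by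
    rw [reassoc_of% hgVres, ← hφ₀', ← Spec.map_comp_assoc, ← Spec.map_comp_assoc]
    rfl)
  obtain ⟨p, hp, hp'⟩ := H z _ φW (by
    rw [← reassoc_of% hgV, ← hW, ← Spec.map_comp_assoc]
    rfl)
  have hV' : Spec.map (CommRingCat.ofHom (incl V Rt)) ≫ p = gV := by
    refine Hu z V _ _ ?_ hgV ?_
    · rw [← hp, ← Spec.map_comp_assoc]
      rfl
    · rw [Category.assoc, hp', hW]
  let ht : Spec (CommRingCat.of Rt) ⟶ Y := Spec.map (CommRingCat.ofHom (compositeRes V Rt)) ≫ p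
  have hht : Spec.map (CommRingCat.ofHom Rt.subtype) ≫ ht =
      Spec.map (CommRingCat.ofHom j) ≫ Y.fromSpecResidueField y := by
    rw [← hgVres, ← hV', ← Spec.map_comp_assoc, ← Spec.map_comp_assoc]
    rfl
  have heq : Rt.comap j = R₀ := comap_eq_of_isLocalHom j R₀ Rt hRt hRtloc
  obtain ⟨m, hm, hm'⟩ := exists_factor j Rt ht (Y.fromSpecResidueField y) hht (comapMap j Rt)
    fun _ => rfl
  let e : Rt.comap j →+* R₀ :=
    (Rt.comap j).subtype.codRestrict R₀.toSubring fun x => heq.le x.2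
  let m₀ : Spec (CommRingCat.of R₀) ⟶ Y := Spec.map (CommRingCat.ofHom e) ≫ m
  have hm₀ : Spec.map (CommRingCat.ofHom R₀.subtype) ≫ m₀ = Y.fromSpecResidueField y := by
    rw [← hm', ← Spec.map_comp_assoc]
    rfl
  have hm₀t : Spec.map (CommRingCat.ofHom ρ₀) ≫ m₀ = ht := by
    rw [← hm, ← Spec.map_comp_assoc]
    rfl
  have hm₀f : m₀ ≫ f = φ₀ := by
    refine ext_of_closedPoint _ _ _ ?_ (by rw [reassoc_of% hm₀, hφ₀'])
    rw [← map_closedPoint ρ₀, ← Scheme.Hom.comp_apply, ← Scheme.Hom.comp_apply, reassoc_of% hm₀t,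
      Category.assoc, hp', hW']
  refine ⟨Spec.map (CommRingCat.ofHom ρ) ≫ m₀, ?_, by rw [Category.assoc, hm₀f, hφ₀]⟩
  have hcomp : CommRingCat.ofHom ρ ≫ CommRingCat.ofHom R.subtype =
      CommRingCat.ofHom R₀.subtype ≫ g := rfl
  rw [← Spec.map_comp_assoc, hcomp, Spec.map_comp_assoc, hm₀, hg]

/-- Existence over residue fields of a dominating `Z` gives all lifts, for separated `f`. -/
theorem exists_lift_valuationSubring (h : Z ⟶ Y) (f : Y ⟶ X) [QuasiCompact h] [IsSeparated f]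
    (hd : DenseRange h.base)
    (H : ∀ (z : ↥Z) (R : ValuationSubring ↑(Z.residueField z)) (φ : Spec (CommRingCat.of ↥R) ⟶ X),
      Spec.map (CommRingCat.ofHom R.subtype) ≫ φ = Z.fromSpecResidueField z ≫ h ≫ f →
      ∃ l : Spec (CommRingCat.of ↥R) ⟶ Y,
        Spec.map (CommRingCat.ofHom R.subtype) ≫ l = Z.fromSpecResidueField z ≫ h ∧ l ≫ f = φ)
    {K : Type u} [Field K] (R : ValuationSubring K) (i : Spec (CommRingCat.of K) ⟶ Y)
    (φ : Spec (CommRingCat.of R) ⟶ X)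
    (w : Spec.map (CommRingCat.ofHom R.subtype) ≫ φ = i ≫ f) :
    ∃ l : Spec (CommRingCat.of R) ⟶ Y,
      Spec.map (CommRingCat.ofHom R.subtype) ≫ l = i ∧ l ≫ f = φ := by
  refine exists_lift_of_uniq h f hd (fun z V φ₁ φ₂ e₁ e₂ e => ?_) H R i φ w
  let S : ValuativeCommSq f := ⟨V, Z.residueField z, Z.fromSpecResidueField z ≫ h, φ₂ ≫ f,
    ⟨by rw [← e₂, Category.assoc]; rfl⟩⟩
  exact congrArg CommSq.LiftStruct.l
    ((IsSeparated.valuativeCriterion f S).elim ⟨φ₁, e₁, e⟩ ⟨φ₂, e₂, rfl⟩)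

end Groth.Agent.ValComp
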